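import Cfsg.Agent.H504.AN.MinDeg
import Cfsg.Agent.H674.ThreePrimes
import Cfsg.Agent.H424.DegTools
import Cfsg.Agent.H704.S8.Defs

/-!
# S4908, SOC2 when the squares of at most two primes divide degrees (helper786)

* `soc2_of_sq` : if there are no three primes whose squares divide degrees in `D`, minimal normal nonabelian subgroups
  of groups with degrees in `D` are simple.
-/

set_option autoImplicit false

namespace Cfsg.Agent.H786.S8

open Cfsg Cfsg.Agent.H504.AN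

universe u v

theorem soc2_of_sq {D : Set ℕ}
    (hsq : ∀ p q r : ℕ, p ≠ q → q ≠ r → p ≠ r → p.Prime → q.Prime → r.Prime → (∃ d ∈ D, p ^ 2 ∣ d) →
      (∃ d ∈ D, q ^ 2 ∣ d) → (∃ d ∈ D, r ^ 2 ∣ d) → False) : H704.S8.Soc2.{u} D := by
  intro Y _ _ h W hW hne hmin hna
  have hna' : ¬ ∀ x ∈ W, ∀ y ∈ W, Commute x y := by
    intro hc
    exact hna ⟨⟨fun a b => Subtype.ext (hc a a.2 b b.2)⟩⟩
  obtain ⟨m, S, iS, F⟩ := exists_mfac W hmin hna'
  have hfin := F.finite
  have hsimp := F.simple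
  rcases Nat.lt_or_ge m 2 with hm | hm
  · have hm1 : m = 1 := by have := F.pos; omega
    subst hm1
    exact F.simple_of_one
  · exfalso
    have hnc : ¬ ∀ a b : S, a * b = b * a := fun h => F.nonab ⟨⟨h⟩⟩
    obtain ⟨p, q, r, h1, h2, h3, hp, hq, hr⟩ := H674.ThreePrimes.three_of_simple hnc
    have key : ∀ {p : ℕ}, p ∈ degreePrimes S → ∃ d ∈ D, p ^ 2 ∣ d := by
      rintro p ⟨-, d, hd, hpd⟩
      obtain ⟨d', h4, h5⟩ := F.pow hd
      exact ⟨d', h h4, (pow_dvd_pow p hm).trans ((pow_dvd_pow_of_dvd hpd m).trans h5)⟩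
    exact hsq p q r h1 h2 h3 hp.1 hq.1 hr.1 (key hp) (key hq) (key hr)

/-- the prime squares dividing numbers of a list: a finite check -/
theorem soc2_of_list {D : Set ℕ} {L : List ℕ} {M : ℕ} (hL : ∀ d ∈ D, d ∈ L) (hM : ∀ d ∈ L, 0 < d ∧ d < M ^ 2)
    {P : List ℕ} (hP : ∀ p < M, p.Prime → (∃ d ∈ L, p ^ 2 ∣ d) → p ∈ P) (hP2 : ∃ a b : ℕ, ∀ p ∈ P, p = a ∨ p = b) :
    H704.S8.Soc2.{u} D := by
  obtain ⟨a, b, hab⟩ := hP2
  refine soc2_of_sq fun p q r h1 h2 h3 hp hq hr hp' hq' hr' => ?_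
  have key : ∀ {p : ℕ}, p.Prime → (∃ d ∈ D, p ^ 2 ∣ d) → p = a ∨ p = b := by
    rintro p hp ⟨d, hd, hpd⟩
    refine hab p (hP p ?_ hp ⟨d, hL d hd, hpd⟩)
    obtain ⟨h4, h5⟩ := hM d (hL d hd)
    have h6 := Nat.le_of_dvd h4 hpd
    by_contra hcon
    have := Nat.pow_le_pow_left (Nat.le_of_not_lt hcon) 2
    omega
  rcases key hp hp' with h4 | h4 <;> rcases key hq hq' with h5 | h5 <;> rcases key hr hr' with h6 | h6 <;> omega

/-- the orders: the squares of at most two primes divide `2 |X|` -/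
theorem soc2_of_card {X : Type v} [Group X] [Finite X] {c : ℕ} {D : Set ℕ} (hD : H704.S8.Deg c X D)
    (hout : (MulAut.conj : X →* MulAut X).range.index ≤ 2) {N a b : ℕ} (hN : Nat.card X = N)
    (hab : ∀ p : ℕ, p.Prime → p ^ 2 ∣ 2 * N → p = a ∨ p = b) : H704.S8.Soc2.{u} D := by
  have hcard : ∀ d ∈ D, d ∣ 2 * N := by
    intro d hd
    rcases hD with rfl | ⟨-, rfl⟩
    · rw [← hN]
      exact (H424.DegTools.dvd_card hd).mul_left 2
    · have h1 := H424.DegTools.dvd_card hd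
      rw [← (MulAut.conj : X →* MulAut X).range.card_mul_index] at h1
      refine h1.trans ?_
      have h2 : (MulAut.conj : X →* MulAut X).range.index ≠ 0 := Subgroup.index_ne_zero_of_finite
      have h3 : (MulAut.conj : X →* MulAut X).range.index ∣ 2 := by
        have h4 : (MulAut.conj : X →* MulAut X).range.index = 1 ∨ (MulAut.conj : X →* MulAut X).range.index = 2 := by
          omega
        rcases h4 with h4 | h4 <;> rw [h4]
        exact one_dvd 2
      have h4 : Nat.card (MulAut.conj : X →* MulAut X).range ∣ Nat.card X := Subgroup.card_range_dvd _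
      rw [mul_comm 2 N, ← hN]
      exact Nat.mul_dvd_mul h4 h3
  have key : ∀ {p : ℕ}, p.Prime → (∃ d ∈ D, p ^ 2 ∣ d) → p = a ∨ p = b := by
    rintro p hp ⟨d, hd, hpd⟩
    exact hab p hp (hpd.trans (hcard d hd))
  apply soc2_of_sq
  intro p q r h1 h2 h3 hp hq hr hp' hq' hr' 
  rcases key hp hp' with h4 | h4 <;> rcases key hq hq' with h5 | h5 <;> rcases key hr hr' with h6 | h6 <;> omega

/-- the numerical check -/
theorem sq_of_mul {p m : ℕ} (hp : p.Prime) {N : ℕ} (hN : N = m * (2 ^ 12 * 3 ^ 5)) (hm : Squarefree m)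
    (h : p ^ 2 ∣ N) : p = 2 ∨ p = 3 := by
  subst hN
  by_contra hcon
  push Not at hcon
  have h2 : (p ^ 2).Coprime (2 ^ 12 * 3 ^ 5) := by
    refine Nat.Coprime.mul_right ?_ ?_
    · exact Nat.Coprime.pow _ _ ((Nat.coprime_primes hp Nat.prime_two).2 hcon.1)
    · exact Nat.Coprime.pow _ _ ((Nat.coprime_primes hp Nat.prime_three).2 hcon.2)
  have h3 : p ^ 2 ∣ m := h2.dvd_of_dvd_mul_right h
  rw [sq] at h3
  have := hm p h3
  rw [Nat.isUnit_iff] at this
  exact hp.one_lt.ne' this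

end Cfsg.Agent.H786.S8
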