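import Cfsg.Agent.H245.AN.Core
import Cfsg.Agent.H691.AN.Frame
import Cfsg.Agent.H704.S8.Defs
import Cfsg.Agent.H424.DegTools

/-!
# S4908, SOLV: solvable groups with a given finite set of degrees: the numerical criterion (helper786, after helper245)

* `perfect_of_list` : `charDegrees G = 𝒟`, `𝒟` contained in an explicit list `1 :: C.map (·.1)`, for each possible degree
  `f` a list of witnesses in `𝒟`: the derived subgroup is perfect;
* `solv_of_list` : no solvable group has the degree set `𝒟`.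
-/

set_option autoImplicit false

namespace Cfsg.Agent.H786.S8

open Cfsg Cfsg.Agent.H681 Cfsg.Agent.H681.DegBasic Cfsg.Agent.H245.AN

universe u

open scoped commutatorElement

theorem perfect_of_list {𝒟 : Set ℕ} {P W : List ℕ} {C : List (ℕ × List ℕ)}
    (hchk : chkB (1 :: C.map (·.1)) P W C = true)
    (hLD : ∀ d ∈ 𝒟, d ∈ 1 :: C.map (·.1)) (hW : ∀ w ∈ W, w ∈ 𝒟) (hP : ∀ p : ℕ, p.Prime → ∀ d ∈ 𝒟, p ∣ d → p ∈ P)
    {G : Type u} [Group G] [Finite G] (h : charDegrees G = 𝒟) : ⁅commutator G, commutator G⁆ = commutator G := by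
  classical
  have := Fintype.ofFinite G
  by_contra hcon
  obtain ⟨p, f, hp, hf1, hc⟩ := H34.Perf3.cases_of_not_perfect hcon
  -- the certificate for `f`
  have hcert : f ∈ 𝒟 → ∃ A : List ℕ, (∃ d, d ∈ A) ∧ f < 2 ^ 40 ∧
      (∀ d ∈ A, d ∈ 𝒟 ∧ badB (1 :: C.map (·.1)) d f = true) ∧
      (p ∈ P → (¬ p ∣ f → ∃ d ∈ A, ∀ m : ℕ, f < p ^ m → ¬ p ^ m ∣ d * d) ∧
        (f ∣ p ^ 40 → ∃ d ∈ A, ¬ p ∣ d)) := by
    intro hf
    have h1 := hLD f hf
    rw [List.mem_cons, List.mem_map] at h1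
    rcases h1 with h1 | ⟨c, hcC, rfl⟩
    · omega
    have h2 := (List.all_eq_true.1 hchk) c hcC
    simp only [Bool.and_eq_true] at h2
    obtain ⟨⟨⟨⟨-, h3⟩, h4⟩, h5⟩, h6⟩ := h2
    refine ⟨c.2, ?_, ?_, ?_, ?_⟩
    · rcases hA : c.2 with _ | ⟨a, l⟩
      · rw [hA] at h4
        simp at h4
      · exact ⟨a, by simp⟩
    · have := Nat.le_of_ble_eq_true (show Nat.ble (c.1 + 1) (2 ^ 40) = true from h3)
      omega
    · intro d hd
      have h7 := (List.all_eq_true.1 h5) d hd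
      rw [Bool.and_eq_true, memB_iff] at h7
      exact ⟨hW d h7.1, h7.2⟩
    · intro hpn
      have h7 := (List.all_eq_true.1 h6) p hpn
      rw [Bool.and_eq_true, Bool.or_eq_true, Bool.or_eq_true] at h7
      obtain ⟨h8, h9⟩ := h7
      constructor
      · intro hpf
        rcases h8 with h8 | h8
        · rw [Nat.beq_eq] at h8
          exact absurd (Nat.dvd_of_mod_eq_zero h8) hpf
        · obtain ⟨d, hd, h10⟩ := List.any_eq_true.1 h8
          refine ⟨d, hd, fun m hm => ?_⟩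
          have h11 := np_of _ _ h10 m (by rwa [one_mul])
          rwa [one_mul] at h11
      · intro hfp
        rcases h9 with h9 | h9
        · rw [Bool.not_eq_true', ← Bool.not_eq_true, Nat.beq_eq] at h9
          exact absurd (Nat.mod_eq_zero_of_dvd hfp) h9
        · obtain ⟨d, hd, h10⟩ := List.any_eq_true.1 h9
          rw [Bool.not_eq_true', ← Bool.not_eq_true, Nat.beq_eq] at h10
          exact ⟨d, hd, fun h11 => h10 (Nat.mod_eq_zero_of_dvd h11)⟩
  rw [h] at hc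
  have one_mem' : (1 : ℕ) ∈ 𝒟 := h ▸ (one_mem : (1 : ℕ) ∈ charDegrees G)
  have pos' : ∀ {d : ℕ}, d ∈ 𝒟 → 0 < d := fun {d} hd => pos_of_mem (G := G) (h.symm ▸ hd)
  rcases hc with ⟨⟨b, hb⟩, hc⟩ | ⟨hfp, N, hN, hNf, m, hm, hfm, hc⟩
  · -- the `p`-group case
    have hfD : f ∈ 𝒟 := by
      rcases hc 1 one_mem' with h1 | h1
      · exact absurd (Nat.dvd_one.1 h1) hp.one_lt.ne'
      · rwa [mul_one] at h1
    obtain ⟨A, -, hA2, hA3, hA4⟩ := hcert hfD
    have hb0 : b ≠ 0 := by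
      rintro rfl
      rw [pow_zero] at hb
      omega
    have hpf : p ∣ f := by rw [hb]; exact dvd_pow_self p hb0
    have hb40 : b ≤ 40 := by
      by_contra hlt
      have h1 : 2 ^ 40 ≤ p ^ b := (Nat.pow_le_pow_left hp.two_le 40).trans (Nat.pow_le_pow_right hp.pos (by omega))
      omega
    obtain ⟨d, hd, hpd⟩ := (hA4 (hP p hp f hfD hpf)).2 (by rw [hb]; exact pow_dvd_pow p hb40)
    obtain ⟨hdD, hbad⟩ := hA3 d hd
    rcases hc d hdD with h1 | h1
    · exact hpd h1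
    · have hd0 := pos' hdD
      exact bad_of hbad (by omega) dvd_rfl (by rw [Nat.div_self hd0]; exact one_dvd _) (hLD _ h1)
  · -- the Frobenius case
    have := Fintype.ofFinite N
    have hcN : ∀ e ∈ charDegrees N, p ^ m ∣ e ^ 2 ∨ f * e ∈ 𝒟 := by
      intro e he
      obtain ⟨ψ, hψ, hψe⟩ := mem_charDegrees.1 he
      exact hc ψ hψ e hψe
    have hfD : f ∈ 𝒟 := by
      rcases hcN 1 one_mem with h1 | h1
      · rw [one_pow] at h1
        have := Nat.le_of_dvd one_pos h1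
        omega
      · rwa [mul_one] at h1
    obtain ⟨A, hA1, -, hA3, hA4⟩ := hcert hfD
    -- each witness is divisible
    have key : ∀ d ∈ A, p ^ m ∣ d * d := by
      intro d hd
      obtain ⟨hdD, hbad⟩ := hA3 d hd
      have hdG : d ∈ charDegrees G := by rw [h]; exact hdD
      obtain ⟨χ, hχ, hχd⟩ := mem_charDegrees.1 hdG
      obtain ⟨ψ, e, hψ, hψe, -, he1, he2⟩ := exists_constituent N hχ hχd
      rw [hNf] at he2
      have heN : e ∈ charDegrees N := mem_charDegrees.2 ⟨ψ, hψ, hψe⟩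
      rcases hcN e heN with h1 | h1
      · rw [← sq]
        exact h1.trans (pow_dvd_pow_of_dvd he1 2)
      · exact absurd (hLD _ h1) (bad_of hbad (by omega) he1 he2)
    have hpf : ¬ p ∣ f := fun h1 => by
      have h2 := (Nat.Prime.coprime_iff_not_dvd hp).1 hfp.symm
      exact h2 h1
    obtain ⟨d0, hd0⟩ := hA1
    have hpd : p ∣ d0 := by
      have h1 := (dvd_pow_self p hm.ne').trans (key d0 hd0)
      rcases (Nat.Prime.dvd_mul hp).1 h1 with h2 | h2 <;> exact h2
    obtain ⟨d, hd, h1⟩ := (hA4 (hP p hp d0 (hA3 d0 hd0).1 hpd)).1 hpf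
    exact h1 m hfm (key d hd)

/-- no solvable group has the degree set `𝒟` -/
theorem solv_of_list {𝒟 : Set ℕ} {P W : List ℕ} {C : List (ℕ × List ℕ)}
    (hchk : chkB (1 :: C.map (·.1)) P W C = true)
    (hLD : ∀ d ∈ 𝒟, d ∈ 1 :: C.map (·.1)) (hW : ∀ w ∈ W, w ∈ 𝒟) (hP : ∀ p : ℕ, p.Prime → ∀ d ∈ 𝒟, p ∣ d → p ∈ P)
    {w : ℕ} (hw : w ∈ 𝒟) (hw1 : 1 < w) : Cfsg.Agent.H704.S8.Solv.{u} 𝒟 := by
  intro G _ _ hs h
  have h1 := perfect_of_list hchk hLD hW hP h
  have h2 : commutator G = ⊥ := Cfsg.Agent.H691.AN.eq_bot_of_perfect h1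
    (Group.isSolvable_of_isSolvable_injective (f := (commutator G).subtype) Subtype.val_injective)
  have h3 : w ∈ charDegrees G := h ▸ hw
  have hc : ∀ a b : G, a * b = b * a := by
    intro a b
    have h4 : ⁅a, b⁆ ∈ commutator G := by
      rw [commutator_def]
      exact Subgroup.commutator_mem_commutator (Subgroup.mem_top a) (Subgroup.mem_top b)
    rw [h2, Subgroup.mem_bot, commutatorElement_eq_one_iff_mul_comm] at h4
    exact h4
  have h5 := H424.DegTools.ito h3 (⊤ : Subgroup G) (fun a _ b _ => hc a b)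
  rw [Subgroup.index_top, Nat.dvd_one] at h5
  omega

end Cfsg.Agent.H786.S8
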