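import Cfsg.Agent.H786.S8.MEleven
import Cfsg.Agent.H657.DS.LieSmall
import Cfsg.Agent.H671.FactRows
import Cfsg.Agent.H679.LieAlt
import Cfsg.Agent.TwoGenCore.IsoMEleven
import Cfsg.Agent.H603.FD.Spor
import Cfsg.Agent.NotCT.Orders
import Cfsg.Agent.S0000
import Cfsg.Agent.S4760

/-!
# S4908, M11: SOC1 (helper786)
-/

set_option autoImplicit false

namespace Cfsg.Agent.H786.S8.MEleven

open Cfsg Cfsg.Agent.NotCT
open Cfsg.Agent.H657.DS (card_typ typ_mem typ_16 mem_equiv)

universe u v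
variable {G : Type v} [Group G] [Finite G]

theorem exists_dvd_degree {S : Type u} [Group S] [Finite S] [IsSimpleGroup S] (hna : ¬ IsMulCommutative S) {p : ℕ}
    (hp : p.Prime) (hd : p ∣ Nat.card S) : ∃ d ∈ charDegrees S, p ∣ d := by
  have : Fact p.Prime := ⟨hp⟩
  by_contra hcon
  push Not at hcon
  obtain ⟨P⟩ := (inferInstance : Nonempty (Sylow p S))
  have h1 := (S4760.result p P).2 fun χ hχ => hcon _ ⟨χ, rfl⟩ hχ
  obtain ⟨h2, h3⟩ := h1
  rcases IsSimpleGroup.eq_bot_or_eq_top_of_normal (P : Subgroup S) h2 with h | h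
  · have h4 : p ∣ Nat.card (P : Subgroup S) := P.dvd_card_of_dvd_card hd
    rw [h, Subgroup.card_bot] at h4
    exact hp.one_lt.ne' (Nat.dvd_one.1 h4)
  · apply hna
    refine ⟨⟨fun a b => ?_⟩⟩
    have ha : a ∈ (P : Subgroup S) := by rw [h]; exact Subgroup.mem_top a
    have hb : b ∈ (P : Subgroup S) := by rw [h]; exact Subgroup.mem_top b
    exact congrArg Subtype.val (h3.is_comm.comm (⟨a, ha⟩ : (P : Subgroup S)) ⟨b, hb⟩)

theorem seven_dvd_alt {l : ℕ} (hl : 7 ≤ l) : 7 ∣ Nat.card (alternatingGroup (Fin l)) := by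
  have : Nontrivial (Fin l) := Fin.nontrivial_iff_two_le.2 (by omega)
  have h1 := two_mul_nat_card_alternatingGroup (α := Fin l)
  rw [Nat.card_perm, Nat.card_fin] at h1
  have hp : Nat.Prime 7 := by norm_num
  have h2 : 7 ∣ 2 * Nat.card (alternatingGroup (Fin l)) := by
    rw [h1]
    exact (hp.dvd_factorial).2 hl
  rcases hp.dvd_mul.1 h2 with h | h
  · omega
  · exact h

/-- the degrees -/
abbrev LL : List ℕ := [1, 10, 11, 16, 44, 45, 55]

section
variable {A : Type u} [Group A] [Finite A] (S : Subgroup A) [S.Normal]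

theorem ovr (h : ∀ d ∈ charDegrees A, d ∈ LL) {c : ℕ} (hc : c ∈ charDegrees S) : ∃ d ∈ LL, c ∣ d := by
  obtain ⟨d, hd, h1, -⟩ := H424.DegTools.clifford_up S hc
  exact ⟨d, h d hd, h1⟩

theorem prime_mem (h : ∀ d ∈ charDegrees A, d ∈ LL) [IsSimpleGroup S] (hna : ¬ IsMulCommutative S) {p : ℕ}
    (hp : p.Prime) (hd : p ∣ Nat.card S) : ∃ d ∈ LL, p ∣ d := by
  obtain ⟨c, hc, hpc⟩ := exists_dvd_degree hna hp hd
  obtain ⟨d, hd, hcd⟩ := ovr S h hc
  exact ⟨d, hd, hpc.trans hcd⟩

/-- the Steinberg character -/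
theorem st_mem (h : ∀ d ∈ charDegrees A, d ∈ LL) [IsSimpleGroup S] {p : ℕ} (hp : p.Prime) (hl : IsLieTypeChar p S) :
    p ^ (Nat.card S).factorization p ∈ LL := by
  have := Fact.mk hp
  obtain ⟨χ, hχ, -, hχ1⟩ := H691.StExt.exists_ext S (H996.AllSplit.hasSplit_of_lie hp hl)
  obtain ⟨Q⟩ := (inferInstance : Nonempty (Sylow p S))
  apply h
  refine H424.DegTools.mem_charDegrees.2 ⟨χ, hχ, ?_⟩
  have h1 := hχ1 Q
  rw [Q.card_eq_multiplicity] at h1
  exact h1

theorem typ_eleven {t : Typ} {k : ℕ} (hv : t.Valid 11 k) (hk : k * t.N = 1) : (t, k) ∈ [(Typ.L 2, 1)] :=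
  typ_mem 11 1 _ (by decide +kernel) hv hk

theorem lie_false (h : ∀ d ∈ charDegrees A, d ∈ LL) [IsSimpleGroup S] (hna : ¬ IsMulCommutative S) {p : ℕ}
    (hp : p.Prime) (hl : IsLieTypeChar p S) : False := by
  have hst := st_mem S h hp hl
  obtain ⟨t, k, hv, ht⟩ := exists_typ hp hl
  have ho := card_eq hp hv ht
  have h0 := H808.SmallSylow.ordProj_eq hp Nat.card_pos.ne' (dvd_card hp hv ho) (not_dvd_card hp hv ho)
  rw [h0] at hst
  have hk1 : 1 ≤ k * t.N := by
    have h1 := one_le_k hv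
    have h2 := NotCT.N_pos hv
    exact Nat.mul_pos h1 h2
  have hcase : (p = 11 ∧ k * t.N = 1) ∨ (p = 2 ∧ k * t.N = 4) := by
    generalize k * t.N = a at hst hk1
    have h2 := hp.two_le
    have ha : a < 6 := by
      by_contra hcon
      have h3 : 2 ^ 6 ≤ p ^ a := (Nat.pow_le_pow_left h2 6).trans (Nat.pow_le_pow_right (by omega) (by omega))
      have h4 : ∀ d ∈ LL, d < 64 := by decide
      have := h4 _ hst
      omega
    have hpp : p < 56 := by
      have h3 : p ^ 1 ≤ p ^ a := Nat.pow_le_pow_right (by omega) hk1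
      have h4 : ∀ d ∈ LL, d < 56 := by decide
      have := h4 _ hst
      rw [pow_one] at h3
      omega
    have key : ((List.range 6).all fun a => (List.range 56).all fun p =>
        !(Nat.ble 1 a && Nat.ble 2 p && LL.contains (p ^ a)) || ((p == 11 && a == 1) || (p == 2 && a == 4) ||
          [10, 16, 44, 45, 55, 4].contains p)) = true := by decide +kernel
    have k1 := List.all_eq_true.1 (List.all_eq_true.1 key a (List.mem_range.2 ha)) p (List.mem_range.2 hpp)
    have k2 : (Nat.ble 1 a && Nat.ble 2 p && LL.contains (p ^ a)) = true := by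
      rw [Bool.and_eq_true, Bool.and_eq_true]
      exact ⟨⟨Nat.ble_eq_true_of_le hk1, Nat.ble_eq_true_of_le h2⟩, by simpa using hst⟩
    rw [k2, Bool.not_true, Bool.false_or] at k1
    simp only [Bool.or_eq_true, Bool.and_eq_true, beq_iff_eq, List.contains_iff_mem, List.mem_cons, List.not_mem_nil,
      or_false] at k1
    rcases k1 with (h | h) | h | h | h | h | h | h
    · exact Or.inl h
    · exact Or.inr h
    all_goals · subst h; exact absurd hp (by norm_num)
  rcases hcase with ⟨rfl, h1⟩ | ⟨rfl, h1⟩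
  · have h2 := typ_eleven hv h1
    simp only [List.mem_cons, List.not_mem_nil, or_false, Prod.mk.injEq] at h2
    obtain ⟨rfl, rfl⟩ := h2
    obtain ⟨F, _, _, hF, ⟨e⟩⟩ := ht
    obtain ⟨-, h12, -⟩ := H664.R1.PSLTwo.degrees_odd (F := F) (by rw [hF]; decide) (by rw [hF]; norm_num)
    rw [hF] at h12
    obtain ⟨d, hd, h3⟩ := ovr S h (mem_equiv e h12)
    revert h3
    have : ∀ d ∈ LL, ¬ (11 ^ 1 + 1) ∣ d := by decide
    exact this d hd
  · have h2 := typ_16 hv h1
    simp only [List.mem_cons, List.not_mem_nil, or_false, Prod.mk.injEq] at h2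
    obtain ⟨rfl, rfl⟩ := h2
    have hc : Nat.card S = 4080 := card_typ hp _ hv ht (d := 1) (by decide +kernel) (by decide +kernel) (by norm_num)
    obtain ⟨d, hd, h3⟩ := prime_mem S h hna (p := 17) (by norm_num) (by rw [hc]; norm_num)
    revert h3
    have : ∀ d ∈ LL, ¬ 17 ∣ d := by decide
    exact this d hd

theorem prime_false (h : ∀ d ∈ charDegrees A, d ∈ LL) [IsSimpleGroup S] (hna : ¬ IsMulCommutative S) {p : ℕ}
    (hp : p.Prime) (hd : p ∣ Nat.card S) (hL : ∀ d ∈ LL, ¬ p ∣ d) : False := by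
  obtain ⟨d, h1, h2⟩ := prime_mem S h hna hp hd
  exact hL d h1 h2

theorem prime_false' (h : ∀ d ∈ charDegrees A, d ∈ LL) [IsSimpleGroup S] (hna : ¬ IsMulCommutative S) {N : ℕ}
    (hN : Nat.card S = N) (p : ℕ) (hp : p.Prime) (hd : p ∣ N) (hL : ∀ d ∈ LL, ¬ p ∣ d) : False :=
  prime_false S h hna hp (hN ▸ hd) hL

theorem dvd_false (h : ∀ d ∈ charDegrees A, d ∈ LL) {c : ℕ} (hc : c ∈ charDegrees S) (hL : ∀ d ∈ LL, ¬ c ∣ d) : False := by
  obtain ⟨d, h1, h2⟩ := ovr S h hc
  exact hL d h1 h2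

end

/-- **SOC1** for `M11` -/
theorem soc1 (hG : Cfsg.IsM11 G) {D : Set ℕ} (hD : H704.S8.Deg 1 G D) : H704.S8.Soc1.{u} D G := by
  intro A _ _ S hA hAD
  have i1 := hA.normal
  have i2 := hA.simple
  have hna := hA.nonab
  have h : ∀ d ∈ charDegrees A, d ∈ LL := fun d hd => (deg_iff hG hD).1 (hAD hd)
  have n7 : ∀ d ∈ LL, ¬ 7 ∣ d := by decide
  have n13 : ∀ d ∈ LL, ¬ 13 ∣ d := by decide
  have n17 : ∀ d ∈ LL, ¬ 17 ∣ d := by decide
  have n29 : ∀ d ∈ LL, ¬ 29 ∣ d := by decide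
  have p7 : Nat.Prime 7 := by norm_num
  rcases H671.FactRows.split (fun X _ _ _ => S0000.result (G := X)) S hna with ⟨l, hl, ⟨e⟩⟩ | ⟨r, hr, hS⟩ | hS | hS
  · exfalso
    by_cases h5 : l = 5
    · subst h5
      have : Fact (Nat.Prime 5) := ⟨by norm_num⟩
      obtain ⟨f⟩ := Cfsg.Agent.S0253.psl_zmod5
      exact lie_false S h hna (p := 5) (by norm_num) (Or.inl ⟨ZMod 5, inferInstance, inferInstance, inferInstance, 2, le_rfl,
        fun _ => by rw [ZMod.card]; norm_num, ⟨e.trans f.symm⟩⟩)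
    by_cases h6 : l = 6
    · subst h6
      exact lie_false S h hna (p := 3) (by norm_num) (H679.isLie_six ⟨e⟩)
    refine prime_false S h hna p7 ?_ n7
    rw [Nat.card_congr e.toEquiv]
    exact seven_dvd_alt (by omega)
  · exact (lie_false S h hna hr hS).elim
  · exact (prime_false' S h hna (NotCT.Orders.tits hS) 13 (by norm_num) (by norm_num) n13).elim
  · have k := fun {N : ℕ} (hN : Nat.card S = N) (hd : 7 ∣ N) => (prime_false' S h hna hN 7 p7 hd n7)
    rcases hS with hS | hS | hS | hS | hS | hS | hS | hS | hS | hS | hS | hS | hS | hS | hS | hS | hS | hS | hS | hS | hS | hS | hS | hS | hS | hS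
    · obtain ⟨e1⟩ := hS
      obtain ⟨e2⟩ := TwoGenCore.IsoMEleven.isoM11 hG
      exact ⟨e1.trans e2.symm⟩
    · exact (dvd_false S h (H603.FD.Spor.m12 (H603.FD.Spor.isM12 hS)).2.2.1 (by decide)).elim
    · exact (k (NotCT.Orders.m22 hS) (by norm_num)).elim
    · exact (k (NotCT.Orders.m23 hS) (by norm_num)).elim
    · exact (k (NotCT.Orders.m24 hS) (by norm_num)).elim
    · exact (k (NotCT.Orders.j1 hS) (by norm_num)).elim
    · exact (k (NotCT.Orders.j2 hS) (by norm_num)).elim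
    · exact (prime_false' S h hna (NotCT.Orders.j3 hS) 17 (by norm_num) (by norm_num) n17).elim
    · exact (k (NotCT.Orders.j4 hS) (by norm_num)).elim
    · exact (k (NotCT.Orders.co1 hS) (by norm_num)).elim
    · exact (k (NotCT.Orders.co2 hS) (by norm_num)).elim
    · exact (k (NotCT.Orders.co3 hS) (by norm_num)).elim
    · exact (k (NotCT.Orders.mcl hS) (by norm_num)).elim
    · exact (k (NotCT.Orders.hs hS) (by norm_num)).elim
    · exact (k (NotCT.Orders.suz hS) (by norm_num)).elim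
    · exact (k (NotCT.Orders.he hS) (by norm_num)).elim
    · exact (k (NotCT.Orders.ru hS) (by norm_num)).elim
    · exact (k (NotCT.Orders.on hS) (by norm_num)).elim
    · exact (k (NotCT.Orders.ly hS) (by norm_num)).elim
    · exact (k (NotCT.Orders.fi22 hS) (by norm_num)).elim
    · exact (k (NotCT.Orders.fi23 hS) (by norm_num)).elim
    · exact (k (NotCT.Orders.fi24 hS) (by norm_num)).elim
    · exact (k (NotCT.Orders.hn hS) (by norm_num)).elim
    · exact (k (NotCT.Orders.th hS) (by norm_num)).elim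
    · exact (k (NotCT.Orders.b hS) (by norm_num)).elim
    · exact (k (NotCT.Orders.m hS) (by norm_num)).elim

end Cfsg.Agent.H786.S8.MEleven
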